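import Groth.Prelude.Def_ConstAct
import Mathlib.RingTheory.Invariant.Basic
import Mathlib.RingTheory.Ideal.GoingUp

/-!
# Geometric points of the invariants of a finite group (helper34)

For a finite group `G` acting on an `R`-algebra `A`: points of `A^G` in an algebraically closed
field extend to `A`, and two points of `A` in a domain with the same restriction differ by an
element of `G`.
-/

set_option autoImplicit false

universe u

open Polynomial

namespace Groth.ConstQuot

variable {R : Type u} [CommRing R] {A : Type u} [CommRing A] [Algebra R A]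
variable {G : Type u} [Group G] [Finite G] [MulSemiringAction G A] [SMulCommClass G R A]

instance isInvariant_inv : Algebra.IsInvariant ↥(ConstAct.inv R A G) A G :=
  ⟨fun a ha => ⟨⟨a, ha⟩, rfl⟩⟩

instance isIntegral_inv : Algebra.IsIntegral ↥(ConstAct.inv R A G) A :=
  Algebra.IsInvariant.isIntegral _ A G

/-- A geometric point of the invariants extends. -/
theorem exists_extend {Ω : Type u} [Field Ω] [IsAlgClosed Ω] [Algebra R Ω]
    (y : ↥(ConstAct.inv R A G) →ₐ[R] Ω) :
    ∃ x : A →ₐ[R] Ω, x.comp (ConstAct.inv R A G).val = y := by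
  set B := ↥(ConstAct.inv R A G) with hB
  let P := RingHom.ker y.toRingHom
  have hPp : P.IsPrime := RingHom.ker_isPrime _
  obtain ⟨Q, -, hQp, hQ⟩ := Ideal.exists_ideal_over_prime_of_isIntegral P (⊥ : Ideal A) (by
    rw [← RingHom.ker_eq_comap_bot,
      (RingHom.injective_iff_ker_eq_bot _).1 (Subtype.val_injective : Function.Injective (algebraMap B A))]
    exact bot_le)
  let j : B ⧸ P →+* A ⧸ Q := Ideal.quotientMap Q (algebraMap B A) hQ.ge
  have hj : Function.Injective j := Ideal.quotientMap_injective' hQ.le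
  let _ : Algebra (B ⧸ P) (A ⧸ Q) := j.toAlgebra
  let _ : Algebra (B ⧸ P) Ω := (RingHom.kerLift y.toRingHom).toAlgebra
  have : Module.IsTorsionFree (B ⧸ P) Ω := by
    rw [Module.isTorsionFree_iff_algebraMap_injective]
    exact RingHom.kerLift_injective y.toRingHom
  have : Module.IsTorsionFree (B ⧸ P) (A ⧸ Q) := by
    rw [Module.isTorsionFree_iff_algebraMap_injective]
    exact hj
  have : Algebra.IsIntegral (B ⧸ P) (A ⧸ Q) := ⟨fun a => by
    obtain ⟨a, rfl⟩ := Ideal.Quotient.mk_surjective a
    obtain ⟨p, hp, hpa⟩ := Algebra.IsIntegral.isIntegral (R := B) a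
    refine ⟨p.map (Ideal.Quotient.mk P), hp.map _, ?_⟩
    rw [eval₂_map, show (algebraMap (B ⧸ P) (A ⧸ Q)).comp (Ideal.Quotient.mk P) =
      (Ideal.Quotient.mk Q).comp (algebraMap B A) from Ideal.quotientMap_comp_mk hQ.ge,
      ← hom_eval₂, hpa, map_zero]⟩
  have : IsDomain (B ⧸ P) := Ideal.Quotient.isDomain P
  have : IsDomain (A ⧸ Q) := Ideal.Quotient.isDomain Q
  have : Algebra.IsAlgebraic (B ⧸ P) (A ⧸ Q) := Algebra.IsIntegral.isAlgebraic
  let f : A ⧸ Q →ₐ[B ⧸ P] Ω := IsAlgClosed.lift
  let x₀ : A →+* Ω := f.toRingHom.comp (Ideal.Quotient.mk Q)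
  have hx₀ : ∀ b : B, x₀ b.1 = y b := fun b =>
    (f.commutes (Ideal.Quotient.mk P b)).trans (RingHom.kerLift_mk _ b)
  refine ⟨{ x₀ with commutes' := fun r => ?_ }, AlgHom.ext hx₀⟩
  exact (hx₀ (algebraMap R B r)).trans (y.commutes r)

/-- Two points in a domain with the same restriction to the invariants differ by a group element. -/
theorem exists_smul_eq {Ω : Type u} [CommRing Ω] [IsDomain Ω] [Algebra R Ω] (x x' : A →ₐ[R] Ω)
    (h : x.comp (ConstAct.inv R A G).val = x'.comp (ConstAct.inv R A G).val) :
    ∃ g : G, x' = x.comp (MulSemiringAction.toAlgEquiv R A g : A →ₐ[R] A) := by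
  by_contra hne
  push Not at hne
  have hne' : ∀ g : G, ∃ a : A, x' a ≠ x (g • a) := fun g => by
    by_contra hg
    push Not at hg
    exact hne g (AlgHom.ext hg)
  choose a ha using hne'
  obtain ⟨_⟩ := nonempty_fintype G
  let n : G → ℕ := fun g => (Fintype.equivFin G g : ℕ)
  have hn : Function.Injective n := fun _ _ e =>
    (Fintype.equivFin G).injective (Fin.val_injective e)
  let q : A[X] := ∑ g : G, C (a g) * X ^ n g
  have hq : ∀ g, q.coeff (n g) = a g := fun g => by
    simp only [q, finsetSum_coeff, coeff_C_mul, coeff_X_pow]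
    rw [Finset.sum_eq_single g (fun b _ hb => by rw [if_neg fun e => hb (hn e.symm), mul_zero])
      (fun hg => absurd (Finset.mem_univ g) hg), if_pos rfl, mul_one]
  let F : A[X][X] := MulSemiringAction.charpoly G q
  have key : F.map (mapRingHom x.toRingHom) = F.map (mapRingHom x'.toRingHom) := by
    ext i m
    simp only [coeff_map, coe_mapRingHom]
    refine AlgHom.congr_fun h ⟨(F.coeff i).coeff m, fun g => ?_⟩
    rw [← coeff_smul, MulSemiringAction.smul_coeff_charpoly]
  have h0 : (F.map (mapRingHom x.toRingHom)).eval (mapRingHom x'.toRingHom q) = 0 := by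
    rw [key, eval_map_apply, MulSemiringAction.eval_charpoly, map_zero]
  rw [show F = ∏ g : G, (X - C (g • q)) from rfl, Polynomial.map_prod, eval_prod,
    Finset.prod_eq_zero_iff] at h0
  obtain ⟨g, -, hg⟩ := h0
  rw [Polynomial.map_sub, map_X, map_C, eval_sub, eval_X, eval_C, sub_eq_zero] at hg
  have hc := congrArg (fun p => p.coeff (n g)) hg
  simp only [coe_mapRingHom, coeff_map, coeff_smul, hq] at hc
  exact ha g hc

end Groth.ConstQuot
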