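import Groth.Prelude.Def_ConstAct2
import Groth.Agent.ConstQuot.Orbits
import Mathlib

/-!
# The constant group scheme of a finite group, its points and its action (helper34)
-/

set_option autoImplicit false
set_option linter.unusedSectionVars false
set_option backward.isDefEq.respectTransparency false
set_option backward.isDefEq.respectTransparency.types false

universe u

open CategoryTheory CategoryTheory.Limits MonoidalCategory CartesianMonoidalCategory AlgebraicGeometry

noncomputable section

namespace Groth.ConstQuot

variable {R : Type u} [CommRing R]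

/-- Every point of an affine scheme in an affine scheme comes from an algebra map. -/
theorem pt_surjective {B K : Type u} [CommRing B] [CommRing K] [Algebra R B] [Algebra R K]
    (h : CoactBr.sp R K ⟶ CoactBr.sp R B) : ∃ φ : B →ₐ[R] K, CoactBr.pt φ = h := by
  obtain ⟨ψ, hψ⟩ := Spec.map_surjective h.left
  have e : CommRingCat.ofHom (algebraMap R B) ≫ ψ = CommRingCat.ofHom (algebraMap R K) :=
    Spec.map_injective (by rw [Spec.map_comp, hψ]; exact Over.w h)
  refine ⟨{ ψ.hom with commutes' := fun r => RingHom.congr_fun (congrArg CommRingCat.Hom.hom e) r },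
    Over.OverMorphism.ext hψ⟩

variable {A : Type u} [CommRing A] [Algebra R A]
variable {G : Type u} [Group G] [Fintype G] [DecidableEq G] [MulSemiringAction G A] [SMulCommClass G R A]

theorem etale_F : (algebraMap R (ConstGrp.F R G)).Etale := by
  rw [RingHom.etale_algebraMap]
  exact inferInstanceAs (Algebra.Etale R (G → R))

theorem isAffineHom_GR : IsAffineHom (ConstAct.GR R G).hom :=
  inferInstanceAs (IsAffineHom (Spec.map (CommRingCat.ofHom (algebraMap R (ConstGrp.F R G)))))

theorem isFinite_GR : IsFinite (ConstAct.GR R G).hom := by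
  show IsFinite (Spec.map (CommRingCat.ofHom (algebraMap R (ConstGrp.F R G))))
  rw [IsFinite.SpecMap_iff]
  exact RingHom.finite_algebraMap.2 inferInstance

theorem etale_GR : Etale (ConstAct.GR R G).hom := by
  show Etale (Spec.map (CommRingCat.ofHom (algebraMap R (ConstGrp.F R G))))
  rw [HasRingHomProperty.Spec_iff (P := @Etale)]
  exact etale_F

/-- A point of the constant group scheme in a domain is constant. -/
theorem exists_constPt {K : Type u} [CommRing K] [IsDomain K] [Algebra R K]
    (h : CoactBr.sp R K ⟶ ConstAct.GR R G) : ∃ g : G, h = CoactBr.pt (ConstAct.constPt R G g) := by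
  obtain ⟨φ, rfl⟩ := pt_surjective h
  obtain ⟨g, hg⟩ : ∃ g, φ (ConstGrp.e R g) ≠ 0 := by
    by_contra hne
    push Not at hne
    have := map_one φ
    rw [← ConstGrp.sum_e (R := R) (G := G), map_sum, Finset.sum_eq_zero fun g _ => hne g] at this
    exact zero_ne_one this
  have hg1 : φ (ConstGrp.e R g) = 1 := by
    have := congrArg φ (ConstGrp.e_mul_e (R := R) g g)
    rw [if_pos rfl, map_mul] at this
    exact mul_left_cancel₀ hg (this.trans (mul_one _).symm)
  refine ⟨g, congrArg CoactBr.pt (ConstGrp.algHom_ext fun g' => ?_)⟩
  rw [ConstAct.constPt_apply, ConstGrp.e_apply]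
  rcases eq_or_ne g' g with rfl | hne
  · rw [if_pos rfl, hg1, map_one]
  · rw [if_neg hne.symm, map_zero]
    have := congrArg φ (ConstGrp.e_mul_e (R := R) g g')
    rw [if_neg hne, map_mul, map_zero, hg1, one_mul] at this
    exact this

theorem pt_comp_quot {K : Type u} [CommRing K] [Algebra R K] (x : A →ₐ[R] K) :
    CoactBr.pt x ≫ ConstAct.quot R A G = CoactBr.pt (x.comp (ConstAct.inv R A G).val) :=
  (CoactBr.pt_comp _ _).symm.trans rfl

end Groth.ConstQuot
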