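import Groth.Agent.ConstQuot.Groups
import Groth.Agent.GitQuot.KeelMori.Props
import Groth.Agent.QuotStk.QuotMap
import Groth.Agent.ArtinAtlas.QuotAtlas
import Groth.Agent.AlgStCover.QuotModuli
import Groth.Agent.EtaleBase.FpqcDescent
import Groth.Agent.AlgSpBasic.Topology
import Groth.Agent.AlgSpBasic.AffineMor

/-!
# `[Spec A / G] ⟶ Spec A^G` for a finite group `G` (helper34)

The map is the affine quotient of the finite etale chart `Spec A ⟶ [Spec A / G]`; hence it is a
uniform categorical moduli space and a universal homeomorphism.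
-/

set_option autoImplicit false
set_option linter.unusedSectionVars false
set_option backward.isDefEq.respectTransparency false
set_option backward.isDefEq.respectTransparency.types false

universe u

open CategoryTheory CategoryTheory.Limits MonoidalCategory CartesianMonoidalCategory AlgebraicGeometry Opposite
open Groth.StkBase Groth.AlgStBasic Groth.AlgSpBasic Groth.KeelMori

noncomputable section

namespace Groth.ConstQuot

theorem appTop_toSpecΓ_comp {P : Scheme.{u}} {C : CommRingCat.{u}} (f : C ⟶ Γ(P, ⊤))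
    (c : Γ(Spec C, ⊤)) :
    (P.toSpecΓ ≫ Spec.map f).appTop c = f ((Scheme.ΓSpecIso C).hom c) := by
  rw [Scheme.Hom.comp_appTop, CommRingCat.comp_apply, Scheme.toSpecΓ_appTop]
  exact congrArg (fun t => t c) (Scheme.ΓSpecIso_naturality f)

theorem left_cancel_affine {P Q Z : Scheme.{u}} [IsAffine Z] (q : P ⟶ Q)
    (hq : Function.Injective q.appTop) {f g : Q ⟶ Z} (h : q ≫ f = q ≫ g) : f = g := by
  apply ext_of_isAffine
  ext c
  apply hq
  have := congrArg (fun t : P ⟶ Z => t.appTop c) h
  simpa using this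

variable {R : Type u} [CommRing R] {A : Type u} [CommRing A] [Algebra R A]
variable {G : Type u} [Group G] [Fintype G] [DecidableEq G] [MulSemiringAction G A] [SMulCommClass G R A]


variable (R A G)

/-- The chart. -/
abbrev chart : FibCat.overCat (ConstAct.X R A) ⥤ᵇ ConstAct.quotSt R A G Scheme.fppfPrecoverage :=
  Groth.QuotStk.atlas (ConstAct.gaction R A G)

theorem isFibGrpd : FibCat.IsFibGrpd (ConstAct.quotSt R A G Scheme.fppfPrecoverage).p :=
  Groth.QuotStk.isFibGrpd_quotSt _

theorem isAlgStack : AlgSt.IsAlgStack Scheme.fppfPrecoverage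
    (ConstAct.quotSt R A G Scheme.fppfPrecoverage) :=
  haveI := isAffineHom_GR (R := R) (G := G)
  haveI := etale_GR (R := R) (G := G)
  Groth.ArtinAtlas.isAlgStack_quotSt _

theorem finCov_chart : AlgSt.RepByAlgSpWith (FinCov (Spec (CommRingCat.of R))) (chart R A G) := by
  have := isFinite_GR (R := R) (G := G)
  have := etale_GR (R := R) (G := G)
  have : MorphismProperty.IsLocalAtTarget @IsFinite.{u} Scheme.fppfPrecoverage :=
    Groth.AlgSpBasic.isLocalAtTarget_fppf _
  have : MorphismProperty.IsLocalAtTarget @LocallyOfFinitePresentation.{u} Scheme.fppfPrecoverage :=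
    Groth.AlgSpBasic.isLocalAtTarget_fppf _
  refine Groth.QuotStk.repByAlgSpWith_atlas _ fun B U e => ?_
  subst e
  rw [eqToHom_refl, Category.comp_id]
  exact ⟨⟨⟨surjective_map_of_repWith ((AlgSp.repWith_yon_map_iff _ _).2
        (Groth.QuotStk.prop_π @Surjective Groth.QuotStk.surjective_hom B)),
      locP_of_repWith ((AlgSp.repWith_yon_map_iff _ _).2 (Groth.QuotStk.prop_π @Flat inferInstance B))⟩,
      isFiniteMor_iff_repWith.2 ((AlgSp.repWith_yon_map_iff _ _).2
        (Groth.QuotStk.prop_π @IsFinite inferInstance B))⟩,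
    locP_of_repWith ((AlgSp.repWith_yon_map_iff _ _).2
      (Groth.QuotStk.prop_π @LocallyOfFinitePresentation inferInstance B))⟩

section Chart

variable {R A G}

instance isAffine_X : IsAffine (ConstAct.X R A).left := inferInstanceAs (IsAffine (Spec _))
variable {hX : FibCat.IsFibGrpd (ConstAct.quotSt R A G Scheme.fppfPrecoverage).p}
  {P : Over (Spec (CommRingCat.of R))} {ω : StkSlice.Arr (chart R A G) P} (hω : StkSlice.Univ hX ω)
  [IsAffine P.left] [IsFinite ω.src.left] [Flat ω.src.left] [LocallyOfFinitePresentation ω.src.left]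

include hω in
theorem act_chartQuot (g : G) : ConstAct.act R A G g ≫ chartQuot hω = chartQuot hω := by
  let x := chart R A G
  have hact : lift (CoactBr.pt (ConstAct.constPt R G (K := A) g⁻¹)) (𝟙 (ConstAct.X R A)) ≫
      (ConstAct.gaction R A G).act = ConstAct.act R A G g := by
    have h := ConstAct.gaction_constPt R A G (K := A) g⁻¹ (AlgHom.id R A)
    rw [CoactBr.pt_id, inv_inv] at h
    exact h.trans (Category.id_comp _)
  let i := Groth.StkGerb.QuotFin.trivIso (K := Scheme.fppfPrecoverage)
    (aX := ConstAct.gaction R A G) (ConstAct.act R A G g) (𝟙 (ConstAct.X R A)) _ hact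
  let f : x.obj (Over.mk (ConstAct.act R A G g)) ⟶ x.obj (Over.mk (𝟙 (ConstAct.X R A))) := i.hom.1
  have hf : (ConstAct.quotSt R A G Scheme.fppfPrecoverage).p.map f =
      eqToHom (x.w_obj (Over.mk (ConstAct.act R A G g))) ≫ eqToHom (x.w_obj (Over.mk (𝟙 (ConstAct.X R A)))).symm := by
    refine Eq.trans (@IsHomLift.fac' _ _ _ _ _ _ _ _ _ (𝟙 _) i.hom.1 i.hom.2) ?_
    simp
    rfl
  apply (AlgSp.yon (Spec (CommRingCat.of R))).map_injective
  have h₁ := toModuli_chart hω (finCov_chart R A G) (ConstAct.act R A G g)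
  have h₂ := toModuli_chart hω (finCov_chart R A G) (𝟙 (ConstAct.X R A))
  rw [Category.id_comp] at h₂
  rw [← h₁]
  refine Eq.trans ?_ h₂
  exact (homOf_map' (toModuli hω (finCov_chart R A G)) f _ hf).symm

/-- The ring map to `A` behind the quotient of the chart. -/
def quotRingHom : Γ((Mo (StkSlice.groupoid hω)).left, ⊤) →+* A :=
  ((Scheme.ΓSpecIso (CommRingCat.of A)).hom.hom).comp (chartQuot hω).left.appTop.hom

theorem smul_quotRingHom (g : G) (c : Γ((Mo (StkSlice.groupoid hω)).left, ⊤)) :
    g • quotRingHom hω c = quotRingHom hω c := by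
  have h := congrArg (fun t : ConstAct.X R A ⟶ _ => t.left.appTop c) (act_chartQuot hω g)
  simp only [Over.comp_left, Scheme.Hom.comp_appTop, CommRingCat.comp_apply] at h
  have n := congrArg (fun t => t ((chartQuot hω).left.appTop c))
    (Scheme.ΓSpecIso_naturality (CommRingCat.ofHom (MulSemiringAction.toRingHom G A g)))
  rw [ConstAct.act_left] at h
  simp only [CommRingCat.comp_apply] at n
  exact n.symm.trans (congrArg (Scheme.ΓSpecIso (CommRingCat.of A)).hom h)

theorem quot_appTop_injective : Function.Injective (ConstAct.quot R A G).left.appTop := fun a b e => by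
  have h := Scheme.ΓSpecIso_naturality (CommRingCat.ofHom (ConstAct.inv R A G).val.toRingHom)
  have na := congrArg (fun t => t a) h
  have nb := congrArg (fun t => t b) h
  exact (ConcreteCategory.bijective_of_isIso (Scheme.ΓSpecIso _).hom).1 (Subtype.val_injective
    (na.symm.trans ((congrArg (Scheme.ΓSpecIso (CommRingCat.of A)).hom e).trans nb)))

theorem chartQuot_appTop_injective : Function.Injective (chartQuot hω).left.appTop := fun a b e => by
  have key := appTop_toSpecΓ_comp (P := (StkSlice.groupoid hω).U)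
    (C := CommRingCat.of (StkSlice.groupoid hω).invariants) (CommRingCat.ofHom (StkSlice.groupoid hω).invariants.subtype)
  exact (ConcreteCategory.bijective_of_isIso (Scheme.ΓSpecIso _).hom).1 (Subtype.val_injective
    ((key a).symm.trans (Eq.trans e (key b))))

theorem exists_invFactor : ∃ ψ : ConstAct.specInv R A G ⟶ Mo (StkSlice.groupoid hω),
    ConstAct.quot R A G ≫ ψ = chartQuot hω := by
  have : IsAffine (Mo (StkSlice.groupoid hω)).left := inferInstanceAs (IsAffine (Spec _))
  let θ : Γ((Mo (StkSlice.groupoid hω)).left, ⊤) →+* ↥(ConstAct.inv R A G) :=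
    (quotRingHom hω).codRestrict (ConstAct.inv R A G).toSubring fun c g => smul_quotRingHom hω g c
  let l : (ConstAct.specInv R A G).left ⟶ (Mo (StkSlice.groupoid hω)).left :=
    Spec.map (CommRingCat.ofHom θ) ≫ (Mo (StkSlice.groupoid hω)).left.isoSpec.inv
  have hl : (ConstAct.quot R A G).left ≫ l = (chartQuot hω).left := by
    rw [← cancel_mono (Mo (StkSlice.groupoid hω)).left.isoSpec.hom]
    show _ = (chartQuot hω).left ≫ (Mo (StkSlice.groupoid hω)).left.toSpecΓ
    rw [Scheme.toSpecΓ_naturality, Category.assoc, Category.assoc, Iso.inv_hom_id, Category.comp_id]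
    show Spec.map (CommRingCat.ofHom (ConstAct.inv R A G).val.toRingHom) ≫ Spec.map _ =
      (Spec (CommRingCat.of A)).toSpecΓ ≫ Spec.map (chartQuot hω).left.appTop
    rw [← SpecMap_ΓSpecIso_hom, ← Spec.map_comp, ← Spec.map_comp]
    rfl
  refine ⟨Over.homMk l ?_, Over.OverMorphism.ext hl⟩
  refine left_cancel_affine (ConstAct.quot R A G).left quot_appTop_injective ?_
  rw [← Category.assoc, hl, Over.w, Over.w]
  rfl

variable (π : ConstAct.quotSt R A G Scheme.fppfPrecoverage ⥤ᵇ AlgSt.ofSch (ConstAct.specInv R A G))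
    (hπ : BasedFunctor.comp
        (AlgSt.quotMap Scheme.fppfPrecoverage (ConstAct.GR R G) (ConstAct.gaction R A G)) π =
      AlgSt.ofSpMap ((AlgSp.yon (Spec (CommRingCat.of R))).map (ConstAct.quot R A G)))

include hπ in
theorem exists_iso_toModuli : ∃ χ : Mo (StkSlice.groupoid hω) ≅ ConstAct.specInv R A G,
    π = BasedFunctor.comp (toModuli hω (finCov_chart R A G))
      (AlgSt.ofSpMap ((AlgSp.yon (Spec (CommRingCat.of R))).map χ.hom)) := by
  have : IsAffine (Mo (StkSlice.groupoid hω)).left := inferInstanceAs (IsAffine (Spec _))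
  have : IsAffine (ConstAct.specInv R A G).left := inferInstanceAs (IsAffine (Spec _))
  obtain ⟨χ', ⟨i⟩, -⟩ := (isCatModuli_toModuli hω (finCov_chart R A G)).2
    ((AlgSp.yon (Spec (CommRingCat.of R))).obj (ConstAct.specInv R A G)) (AlgSp.IsAlgSpace.yon_obj _) π
  obtain ⟨χ, rfl⟩ := (AlgSp.yon (Spec (CommRingCat.of R))).map_surjective χ'
  have hπ' := (Groth.AlgStCover.eq_of_iso_ofSp i).symm
  have hχ : chartQuot hω ≫ χ = ConstAct.quot R A G := by
    apply (AlgSp.yon (Spec (CommRingCat.of R))).map_injective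
    let z : (AlgSt.ofSch (ConstAct.X R A)).obj := ⟨ConstAct.X R A, ⟨𝟙 _⟩⟩
    have e := congrArg (fun F => homOf F z) hπ
    simp only at e
    rw [homOf_comp_left, homOf_ofSpMap, hπ', homOf_comp, ← Category.assoc] at e
    have h := toModuli_chart hω (finCov_chart R A G) (𝟙 (ConstAct.X R A))
    rw [Category.id_comp] at h
    rw [Functor.map_comp, ← h]
    refine Eq.trans ?_ (e.trans ?_)
    · rfl
    · exact (congrArg (fun t => t ≫ (AlgSp.yon (Spec (CommRingCat.of R))).map (ConstAct.quot R A G))
        (show yEquiv.symm z.sec = 𝟙 ((AlgSp.yon (Spec (CommRingCat.of R))).obj (ConstAct.X R A)) from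
          yEquiv.symm_apply_eq.2 rfl)).trans (Category.id_comp _)
  obtain ⟨ψ, hψ⟩ := exists_invFactor hω
  refine ⟨⟨χ, ψ, ?_, ?_⟩, hπ'⟩
  · apply Over.OverMorphism.ext
    refine left_cancel_affine (chartQuot hω).left (chartQuot_appTop_injective hω) ?_
    rw [← Over.comp_left, ← Category.assoc, hχ, hψ, ← Over.comp_left, Category.comp_id]
  · apply Over.OverMorphism.ext
    refine left_cancel_affine (ConstAct.quot R A G).left quot_appTop_injective ?_
    rw [← Over.comp_left, ← Category.assoc, hψ, hχ, ← Over.comp_left, Category.comp_id]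

end Chart

end Groth.ConstQuot
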