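import Groth.Agent.GitQuot.KeelMori.UnifModuli
import Groth.Agent.AlgStImm.Criteria
import Groth.Agent.AlgStCover.QuotModuli
import Groth.Agent.AlgStBasic.StUniv
import Groth.Agent.AlgStBasic.Atlas

/-!
# Moduli maps: transport along an isomorphism of targets, base change of geometric bijectivity (helper34)
-/

set_option autoImplicit false
set_option linter.unusedSectionVars false
set_option backward.isDefEq.respectTransparency false
set_option backward.isDefEq.respectTransparency.types false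

universe u

open CategoryTheory CategoryTheory.Limits AlgebraicGeometry Opposite
open Groth.StkBase Groth.AlgStBasic Groth.AlgSpBasic Groth.KeelMori

noncomputable section

namespace Groth.ConstQuot

variable {S : Scheme.{u}} {𝒳 𝒳' : AlgSt.Cat S} {M M' M'' N : AlgSp.Sp S}

theorem ofSpMap_comp (a : M ⟶ M') (b : M' ⟶ M'') :
    BasedFunctor.comp (AlgSt.ofSpMap a) (AlgSt.ofSpMap b) = AlgSt.ofSpMap (a ≫ b) :=
  (ofPshMap_comp a.hom b.hom).symm

theorem isCatModuli_of_equiv {E : 𝒳' ⥤ᵇ 𝒳} (hE : FibCat.IsEquivOver E) {p : 𝒳 ⥤ᵇ AlgSt.ofSp M}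
    {p' : 𝒳' ⥤ᵇ AlgSt.ofSp M} (e : BasedFunctor.comp E p ≅ p') (h : AlgSt.IsCatModuli p') :
    AlgSt.IsCatModuli p := by
  obtain ⟨E', -, ⟨β⟩⟩ := hE
  refine ⟨h.1, fun N hN φ => ?_⟩
  obtain ⟨v, ⟨i⟩, hu⟩ := h.2 N hN (BasedFunctor.comp E φ)
  refine ⟨v, ⟨?_⟩, fun w ⟨j⟩ => hu w ⟨(whiskerRightIso e.symm _).trans (whiskerLeftIso E j)⟩⟩
  exact (whiskerRightIso β.symm (BasedFunctor.comp p (AlgSt.ofSpMap v))).trans
    ((whiskerLeftIso E' ((whiskerRightIso e (AlgSt.ofSpMap v)).trans i)).trans (whiskerRightIso β φ))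

variable (i : M ≅ M') {p : 𝒳 ⥤ᵇ AlgSt.ofSp M}

theorem isCatModuli_comp_iso (hM' : AlgSp.IsAlgSpace M') (h : AlgSt.IsCatModuli p) :
    AlgSt.IsCatModuli (BasedFunctor.comp p (AlgSt.ofSpMap i.hom)) := by
  refine ⟨hM', fun N hN φ => ?_⟩
  obtain ⟨v, ⟨j⟩, hu⟩ := h.2 N hN φ
  refine ⟨i.inv ≫ v, ⟨?_⟩, fun w ⟨k⟩ => ?_⟩
  · refine (eqToIso ?_).trans j
    rw [show ∀ f, BasedFunctor.comp (BasedFunctor.comp p (AlgSt.ofSpMap i.hom)) f =
      BasedFunctor.comp p (BasedFunctor.comp (AlgSt.ofSpMap i.hom) f) from fun _ => rfl,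
      ofSpMap_comp, i.hom_inv_id_assoc]
  · rw [← hu (i.hom ≫ w) ⟨(eqToIso ?_).trans k⟩, i.inv_hom_id_assoc]
    rw [show BasedFunctor.comp (BasedFunctor.comp p (AlgSt.ofSpMap i.hom)) (AlgSt.ofSpMap w) =
      BasedFunctor.comp p (BasedFunctor.comp (AlgSt.ofSpMap i.hom) (AlgSt.ofSpMap w)) from rfl,
      ofSpMap_comp]

theorem isUnifCatModuli_comp_iso (hM' : AlgSp.IsAlgSpace M') (h : AlgSt.IsUnifCatModuli p) :
    AlgSt.IsUnifCatModuli (BasedFunctor.comp p (AlgSt.ofSpMap i.hom)) := by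
  refine ⟨isCatModuli_comp_iso i hM' h.1, fun N hN g hg => ?_⟩
  obtain ⟨g', rfl⟩ : ∃ g' : N ⟶ M, g = g' ≫ i.hom :=
    ⟨g ≫ i.inv, by rw [Category.assoc, i.inv_hom_id, Category.comp_id]⟩
  have := (stableBaseChange_locP (S := S) (P := @Flat)).respectsIso
  have hg' : AlgSp.LocP @Flat g' := (MorphismProperty.cancel_right_of_respectsIso _ _ i.hom).1 hg
  rw [← ofSpMap_comp]
  have hb := AlgStImm.isEquivOver_ofSpMap i
  have := full_of_isEquivOver hb
  have := faithful_of_isEquivOver hb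
  exact isCatModuli_of_equiv (isEquivOver_fpPost (AlgSt.ofSpMap g') p (AlgSt.ofSpMap i.hom)) (Iso.refl _)
    (h.2 N hN g' hg')

theorem isUnivHomeo_comp_iso (hX : AlgSt.IsAlgStack Scheme.fppfPrecoverage 𝒳) (hM : AlgSp.IsAlgSpace M)
    (hM' : AlgSp.IsAlgSpace M') (h : AlgSt.IsUnivHomeo Scheme.fppfPrecoverage p) :
    AlgSt.IsUnivHomeo Scheme.fppfPrecoverage (BasedFunctor.comp p (AlgSt.ofSpMap i.hom)) := by
  intro 𝒵 hZ g
  have hb := AlgStImm.isEquivOver_ofSpMap i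
  have := full_of_isEquivOver hb
  have := faithful_of_isEquivOver hb
  let g' := BasedFunctor.comp g (AlgSt.ofSpMap i.inv)
  let α : BasedFunctor.comp g' (AlgSt.ofSpMap i.hom) ≅ g := by
    refine eqToIso ?_
    show BasedFunctor.comp g (BasedFunctor.comp (AlgSt.ofSpMap i.inv) (AlgSt.ofSpMap i.hom)) = g
    rw [ofSpMap_comp, i.inv_hom_id]
    exact basedFunctor_ext_ofSp' g
  let E := BasedFunctor.comp (fpPost g' p (AlgSt.ofSpMap i.hom))
    (fpCongr α (Iso.refl (BasedFunctor.comp p (AlgSt.ofSpMap i.hom))))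
  have hE : FibCat.IsEquivOver E :=
    isEquivOver_comp (isEquivOver_fpPost _ _ _) (isEquivOver_fpCongr _ _)
  have hs := isAlgStack_ofSp hM
  have hs' := isAlgStack_ofSp hM'
  have h₁ := isAlgStack_fp hs.isStack hs.diag hZ hX g' p
  have h₂ := isAlgStack_fp hs'.isStack hs'.diag hZ hX g (BasedFunctor.comp p (AlgSt.ofSpMap i.hom))
  have hEh := isHomeomorph_map_of_isEquivOver h₁ h₂ hE
  have e : AlgSt.Points.map (FibCat.fpFst g (BasedFunctor.comp p (AlgSt.ofSpMap i.hom))) ∘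
      AlgSt.Points.map E = AlgSt.Points.map (FibCat.fpFst g' p) :=
    funext fun x => (map_comp _ _ x).symm
  have h' := h 𝒵 hZ g'
  rw [← e] at h'
  let H := hEh.homeomorph
  have hH : (AlgSt.Points.map (FibCat.fpFst g (BasedFunctor.comp p (AlgSt.ofSpMap i.hom))) ∘
      AlgSt.Points.map E) ∘ H.symm =
      AlgSt.Points.map (FibCat.fpFst g (BasedFunctor.comp p (AlgSt.ofSpMap i.hom))) :=
    funext fun x => congrArg _ (H.apply_symm_apply x)
  rw [← hH]
  exact h'.comp H.symm.isHomeomorph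
where
  basedFunctor_ext_ofSp' {𝒵 : AlgSt.Cat S} {F : AlgSp.Sp S} (g : 𝒵 ⥤ᵇ AlgSt.ofSp F) :
      BasedFunctor.comp g (AlgSt.ofSpMap (𝟙 F)) = g :=
    Groth.QuotStk.basedFunctor_ext_ofSp fun _ => rfl

theorem fibSec_eq (π : 𝒳 ⥤ᵇ AlgSt.ofSp M) {T : Over S} (x : 𝒳.p.Fiber T) :
    AlgSt.fibSec π x = M.obj.map (eqToHom x.2.symm).op (secOf π x.1) := by
  refine Eq.trans ?_ (map_op_comp M.obj _ _ _).symm
  exact congrArg (fun t => M.obj.map t.op (π.obj x.1).sec) (eqToHom_trans _ _).symm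

theorem geomPtBij_fpFst (hX : FibCat.IsFibGrpd 𝒳.p) {π : 𝒳 ⥤ᵇ AlgSt.ofSp M} (h : AlgSt.GeomPtBij π)
    (g : M' ⟶ M) : AlgSt.GeomPtBij (FibCat.fpFst (AlgSt.ofSpMap g) π) := by
  intro Ω _ _ t
  refine ⟨fun m => ?_, fun a b hab => ?_⟩
  · obtain ⟨x, hx⟩ := (h Ω t).1 (g.hom.app _ m)
    have hrel : yEquiv.symm m ≫ g = (AlgSp.yon S).map (eqToHom x.2.symm) ≫ homOf π x.1 := by
      rw [yEquiv_symm_comp, homOf, yon_map_yEquiv_symm, ← fibSec_eq, hx]
    refine ⟨⟨mkFp (yEquiv.symm m) x.1 x.2 hrel, rfl⟩, ?_⟩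
    refine (fibSec_eq _ _).trans ((map_op_id M'.obj _ rfl _).trans ?_)
    refine (map_op_id M'.obj _ rfl _).trans ?_
    exact yEquiv.apply_symm_apply m
  · obtain ⟨a, ha⟩ := a
    obtain ⟨b, hb⟩ := b
    have ha' : a.obj.fst.base = Over.mk t := ha
    have hb' : b.obj.fst.base = Over.mk t := hb
    rw [fibSec_eq, fibSec_eq] at hab
    have hab' : M'.obj.map (eqToHom ha'.symm).op a.obj.fst.sec =
        M'.obj.map (eqToHom hb'.symm).op b.obj.fst.sec := by
      have := hab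
      simp only [secOf] at this
      exact ((congrArg _ (map_op_id M'.obj _ rfl _)).symm.trans this).trans
        (congrArg _ (map_op_id M'.obj _ rfl _))
    have hs : yEquiv.symm a.obj.fst.sec = (AlgSp.yon S).map (eqToHom (ha'.trans hb'.symm)) ≫
        yEquiv.symm b.obj.fst.sec := by
      rw [yon_map_yEquiv_symm]
      refine congrArg yEquiv.symm ?_
      have h₂ := congrArg (M'.obj.map (eqToHom ha').op) hab'
      rw [map_op_comp, map_op_comp, eqToHom_trans, eqToHom_trans] at h₂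
      exact (map_op_id M'.obj _ rfl _).symm.trans h₂
    have fa : 𝒳.p.obj a.obj.snd = Over.mk t := (fp_p_snd a).trans ha
    have fb : 𝒳.p.obj b.obj.snd = Over.mk t := (fp_p_snd b).trans hb
    have key : AlgSt.fibSec π (⟨a.obj.snd, fa⟩ : 𝒳.p.Fiber (Over.mk t)) =
        AlgSt.fibSec π (⟨b.obj.snd, fb⟩ : 𝒳.p.Fiber (Over.mk t)) := by
      rw [fibSec_eq, fibSec_eq]
      apply yEquiv.symm.injective
      rw [← yon_map_yEquiv_symm, ← yon_map_yEquiv_symm]
      have ra := fp_rel π g a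
      have rb := fp_rel π g b
      rw [homOf_fpFst] at ra rb
      have la : (AlgSp.yon S).map (eqToHom fa.symm) ≫ homOf π a.obj.snd =
          (AlgSp.yon S).map (eqToHom ha'.symm) ≫ yEquiv.symm a.obj.fst.sec ≫ g := by
        rw [ra, ← Category.assoc, ← Functor.map_comp]
        exact congrArg (fun q => (AlgSp.yon S).map q ≫ homOf π a.obj.snd) (eqToHom_trans _ _).symm
      have lb : (AlgSp.yon S).map (eqToHom fb.symm) ≫ homOf π b.obj.snd =
          (AlgSp.yon S).map (eqToHom hb'.symm) ≫ yEquiv.symm b.obj.fst.sec ≫ g := by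
        rw [rb, ← Category.assoc, ← Functor.map_comp]
        exact congrArg (fun q => (AlgSp.yon S).map q ≫ homOf π b.obj.snd) (eqToHom_trans _ _).symm
      refine la.trans (Eq.trans ?_ lb.symm)
      rw [← Category.assoc, ← Category.assoc, hs, ← Category.assoc ((AlgSp.yon S).map (eqToHom ha'.symm)),
        ← Functor.map_comp, eqToHom_trans]
    obtain ⟨j⟩ := (h Ω t).2 _ _ key
    let q : a.obj.fst ⟶ b.obj.fst := eltHom (eqToHom (ha'.trans hb'.symm))
      (by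
        apply yEquiv.symm.injective
        rw [← yon_map_yEquiv_symm]
        exact hs.symm)
    have hj : 𝒳.p.map j.hom.1 = eqToHom (fa.trans fb.symm) :=
      (@IsHomLift.fac' _ _ _ _ _ _ _ _ _ (𝟙 (Over.mk t)) j.hom.1 j.hom.2).trans (by simp)
    let F : a ⟶ b := fpHom q j.hom.1 (elt_hom_ext_p (by
      have h₁ : a.obj.iso.hom.hom = eqToHom (fp_isVert a).obj_eq := (fp_isVert a).map_eq
      have h₂ : b.obj.iso.hom.hom = eqToHom (fp_isVert b).obj_eq := (fp_isVert b).map_eq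
      have h₃ : (π.map j.hom.1).hom = _ := map_map π j.hom.1
      show eqToHom (ha'.trans hb'.symm) ≫ b.obj.iso.hom.hom = a.obj.iso.hom.hom ≫ (π.map j.hom.1).hom
      rw [h₁, h₂, h₃, hj]
      simp))
    have hF : IsVert (FibCat.fp (AlgSt.ofSpMap g) π).p F := ⟨ha.trans hb.symm, rfl⟩
    have hfib := isFibGrpd_fp (isFibSetoid_ofPsh M'.obj).1 hX (F := AlgSt.ofSpMap g) (G := π)
      (isFibSetoid_ofPsh M.obj).1
    have := hF.isIso hfib
    exact ⟨⟨⟨F, hF.isHomLift ha⟩, ⟨inv F, (show IsVert (FibCat.fp (AlgSt.ofSpMap g) π).p (inv F) from IsVert.inv (φ := asIso F) hF).isHomLift hb⟩,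
      Subtype.ext (IsIso.hom_inv_id F), Subtype.ext (IsIso.inv_hom_id F)⟩⟩

end Groth.ConstQuot
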