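import Groth.Agent.ConstQuot.Moduli
import Groth.Agent.ConstQuot.Transport

/-!
# The coarse moduli space of `[Spec A / G]` (helper34)
-/

set_option autoImplicit false
set_option linter.unusedSectionVars false
set_option backward.isDefEq.respectTransparency false
set_option backward.isDefEq.respectTransparency.types false

universe u

open CategoryTheory CategoryTheory.Limits MonoidalCategory CartesianMonoidalCategory AlgebraicGeometry Opposite
open Groth.StkBase Groth.AlgStBasic Groth.AlgSpBasic Groth.KeelMori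

noncomputable section

namespace Groth.ConstQuot

variable {R : Type u} [CommRing R] {A : Type u} [CommRing A] [Algebra R A]
variable {G : Type u} [Group G] [Fintype G] [DecidableEq G] [MulSemiringAction G A] [SMulCommClass G R A]
variable (π : ConstAct.quotSt R A G Scheme.fppfPrecoverage ⥤ᵇ AlgSt.ofSch (ConstAct.specInv R A G))
    (hπ : BasedFunctor.comp
        (AlgSt.quotMap Scheme.fppfPrecoverage (ConstAct.GR R G) (ConstAct.gaction R A G)) π =
      AlgSt.ofSpMap ((AlgSp.yon (Spec (CommRingCat.of R))).map (ConstAct.quot R A G)))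

include hπ in
theorem isUnifCatModuli_and_isUnivHomeo :
    AlgSt.IsUnifCatModuli π ∧ AlgSt.IsUnivHomeo Scheme.fppfPrecoverage π := by
  obtain ⟨P, ω, hω, hfin, hflat, hlfp, -⟩ :=
    exists_finite_chart_groupoid (isFibGrpd R A G) (finCov_chart R A G)
  have : IsAffine P.left := isAffine_of_isAffineHom ω.src.left
  obtain ⟨χ, rfl⟩ := exists_iso_toModuli hω π hπ
  exact ⟨isUnifCatModuli_comp_iso ((AlgSp.yon _).mapIso χ) (AlgSp.IsAlgSpace.yon_obj _)
      (isUnifCatModuli_toModuli hω (finCov_chart R A G)),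
    isUnivHomeo_comp_iso ((AlgSp.yon _).mapIso χ) (isAlgStack R A G) (AlgSp.IsAlgSpace.yon_obj _)
      (AlgSp.IsAlgSpace.yon_obj _) (isUnivHomeo_toModuli hω (finCov_chart R A G) (isAlgStack R A G))⟩

include hπ in
theorem isCoarseModuli : AlgSt.IsCoarseModuli π := by
  have := etale_GR (R := R) (G := G)
  have hcat := (isUnifCatModuli_and_isUnivHomeo π hπ).1.1
  have hc' := ((Groth.AlgStCover.isCatModuliIn_iff π hπ _).1 hcat).2
  refine Groth.AlgStCover.isCoarseModuli_of_orbits π hπ (fun Ω _ _ t => ?_)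
    (fun N ψ hψ => hc' N.obj N.property ψ hψ)
  obtain ⟨φ, rfl⟩ := Spec.map_surjective t
  let _ : Algebra R Ω := φ.hom.toAlgebra
  refine ⟨fun y => ?_, fun x x' h => ?_⟩
  · obtain ⟨y₀, hy₀⟩ := pt_surjective (R := R) (K := Ω) (B := ↥(ConstAct.inv R A G)) y
    obtain ⟨x₀, hx₀⟩ := exists_extend y₀
    exact ⟨CoactBr.pt x₀, (pt_comp_quot x₀).trans ((congrArg CoactBr.pt hx₀).trans hy₀)⟩
  · obtain ⟨x₀, hx₀⟩ := pt_surjective (R := R) (K := Ω) (B := A) x
    obtain ⟨x₀', hx₀'⟩ := pt_surjective (R := R) (K := Ω) (B := A) x'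
    subst hx₀ hx₀'
    have h' : x₀'.comp (ConstAct.inv R A G).val = x₀.comp (ConstAct.inv R A G).val :=
      CoactBr.pt_injective ((pt_comp_quot x₀').symm.trans (h.symm.trans (pt_comp_quot x₀)))
    obtain ⟨g, hg⟩ := exists_smul_eq x₀' x₀ h'
    refine ⟨CoactBr.pt (ConstAct.constPt R G (K := Ω) g⁻¹), ?_⟩
    have e := ConstAct.gaction_constPt R A G (K := Ω) g⁻¹ x₀'
    rw [inv_inv, ← ConstAct.pt_comp_toAlgEquiv, ← hg] at e
    exact e

end Groth.ConstQuot
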