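import Groth.Prelude.Def_StMod2
import Groth.Agent.GitQuot.KeelMori.Props
import Groth.Agent.AlgGrp2.ConstFun
import Groth.Agent.AlgStCover.QuotModuli

/-!
# A uniform categorical moduli map has `O ≅ π_* O` (helper34)

A compatible family of functions on the base change along an etale `E ⟶ M` is a map to the affine
line, hence comes from a unique function on `E`.
-/

set_option autoImplicit false
set_option linter.unusedSectionVars false
set_option backward.isDefEq.respectTransparency false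
set_option backward.isDefEq.respectTransparency.types false

universe u

open CategoryTheory CategoryTheory.Limits AlgebraicGeometry Opposite
open Groth.StkBase Groth.AlgStBasic Groth.AlgSpBasic Groth.KeelMori

noncomputable section

namespace Groth.ConstQuot

/-- The affine line over `ℤ`. -/
abbrev A1Z : Scheme.{u} := Spec (CommRingCat.of (Polynomial (ULift.{u} ℤ)))

theorem fnHom_coord {W : Scheme.{u}} (f : W ⟶ A1Z.{u}) :
    AlgGrp2.ConstFun.fnHom W (f.appTop AlgGrp2.ConstFun.coord) = f := by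
  apply ext_of_isAffine
  rw [← cancel_epi (Scheme.ΓSpecIso (CommRingCat.of (Polynomial (ULift.{u} ℤ)))).inv]
  apply CommRingCat.hom_ext
  refine Polynomial.ringHom_ext' ?_ ?_
  · exact RingHom.ext fun z => by
      have hz : z = ((z.down : ℤ) : ULift.{u} ℤ) := by ext; simp
      rw [hz, map_intCast, map_intCast]
  · exact AlgGrp2.ConstFun.appTop_fnHom W _

variable (S : Scheme.{u})

/-- The affine line over `S`. -/
abbrev A1 : Over S := Over.mk (prod.fst : S ⨯ A1Z.{u} ⟶ S)

variable {S}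

/-- The map to the affine line of a function. -/
def fn {T : Over S} (s : Γ(T.left, ⊤)) : T ⟶ A1 S :=
  Over.homMk (prod.lift T.hom (AlgGrp2.ConstFun.fnHom T.left s)) (prod.lift_fst _ _)

theorem fn_comp {T T' : Over S} (k : T' ⟶ T) (s : Γ(T.left, ⊤)) :
    k ≫ fn s = fn (k.left.appTop s) :=
  Over.OverMorphism.ext <| by
    show k.left ≫ prod.lift _ _ = prod.lift _ _
    rw [prod.comp_lift, Over.w k, AlgGrp2.ConstFun.fnHom_comp]

theorem fn_injective {T : Over S} {s t : Γ(T.left, ⊤)} (h : fn s = fn t) : s = t :=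
  AlgGrp2.ConstFun.fnHom_injective <| by
    have := congrArg (fun f : T ⟶ A1 S => f.left ≫ prod.snd) h
    simpa [fn] using this

theorem exists_fn {T : Over S} (f : T ⟶ A1 S) : ∃ s, fn s = f := by
  refine ⟨(f.left ≫ prod.snd).appTop AlgGrp2.ConstFun.coord, Over.OverMorphism.ext ?_⟩
  refine Limits.prod.hom_ext ((prod.lift_fst _ _).trans (Over.w f).symm) ?_
  exact (prod.lift_snd _ _).trans (fnHom_coord _)

variable {𝒳 : AlgSt.Cat S} {M : AlgSp.Sp S} {π : 𝒳 ⥤ᵇ AlgSt.ofSp M} (E : AlgSp.EtOver M)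

theorem fst_sec_eq (z : (FibCat.fp (AlgSt.ofSpMap E.obj.hom) π).obj) :
    M.obj.map z.obj.fst.sec.down.op (StMod.etaOf E).sec =
      ((AlgSt.ofSpMap E.obj.hom).obj z.obj.fst).sec := by
  show M.obj.map z.obj.fst.sec.down.op (yEquiv E.obj.hom) = E.obj.hom.hom.app _ z.obj.fst.sec
  rw [← app_yEquiv_symm, Equiv.symm_apply_apply]
  rfl

/-- The arrow to `E` of an object of the base change. -/
def toEta (z : (FibCat.fp (AlgSt.ofSpMap E.obj.hom) π).obj) : π.obj z.obj.snd ⟶ StMod.etaOf E :=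
  z.obj.iso.inv ≫ eltHom (a := (AlgSt.ofSpMap E.obj.hom).obj z.obj.fst) z.obj.fst.sec.down
    (fst_sec_eq E z)

theorem map_toEta {a b : (FibCat.fp (AlgSt.ofSpMap E.obj.hom) π).obj} (f : a ⟶ b) :
    π.map f.hom.snd ≫ toEta E b = toEta E a := by
  have w : (AlgSt.ofSpMap E.obj.hom).map f.hom.fst ≫ b.obj.iso.hom =
      a.obj.iso.hom ≫ π.map f.hom.snd := f.hom.w
  refine (cancel_epi a.obj.iso.hom).1 ?_
  rw [← Category.assoc, ← w, Category.assoc, toEta, toEta, Iso.hom_inv_id_assoc, Iso.hom_inv_id_assoc]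
  exact elt_hom_ext_p (congrArg ULift.down f.hom.fst.map_sec)

theorem baseOver_toEta (z : (FibCat.fp (AlgSt.ofSpMap E.obj.hom) π).obj) :
    StMod.baseOver π z.obj.snd (toEta E z) = eqToHom (fp_p_snd z) ≫ z.obj.fst.sec.down := by
  show eqToHom _ ≫ (z.obj.iso.inv.hom ≫ z.obj.fst.sec.down) = _
  have h₁ : z.obj.iso.inv.hom = eqToHom (IsVert.inv (φ := z.obj.iso) (fp_isVert z)).obj_eq :=
    (IsVert.inv (φ := z.obj.iso) (fp_isVert z)).map_eq
  rw [h₁, eqToHom_trans_assoc]

theorem unitIsIso_of_isUnifCatModuli (hπ : AlgSt.IsUnifCatModuli π) : StMod.UnitIsIso π := by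
  intro E
  let g := E.obj.hom
  have hflat : AlgSp.LocP @Flat g :=
    locP_of_repWith (repWith_mono (fun X Y f h => by
      have : AlgebraicGeometry.Etale f := h
      infer_instance) E.property)
  have hc := hπ.2 _ (AlgSp.IsAlgSpace.yon_obj E.obj.left) g hflat
  constructor
  · intro r r' he
    have hrel : ∀ z : (FibCat.fp (AlgSt.ofSpMap g) π).obj,
        z.obj.fst.sec.down ≫ fn r = z.obj.fst.sec.down ≫ fn r' := fun z => by
      have hz := congrArg (fun s => s.1 z.obj.snd (toEta E z)) he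
      rw [StMod.unitSect_val, StMod.unitSect_val] at hz
      have h := congrArg (fn (T := 𝒳.p.obj z.obj.snd)) hz
      rw [← fn_comp, ← fn_comp, baseOver_toEta, Category.assoc, Category.assoc, cancel_epi] at h
      exact h
    obtain ⟨v, -, hv⟩ := hc.2 ((AlgSp.yon S).obj (A1 S)) (AlgSp.IsAlgSpace.yon_obj _)
      (BasedFunctor.comp (FibCat.fpFst (AlgSt.ofSpMap g) π) (AlgSt.ofSpMap ((AlgSp.yon S).map (fn r))))
    have h₁ := hv _ ⟨Iso.refl _⟩
    have h₂ := hv ((AlgSp.yon S).map (fn r')) (nonempty_iso_of_homOf fun z => by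
      rw [homOf_comp, homOf_comp, homOf_fpFst]
      have hm : yEquiv.symm z.obj.fst.sec = (AlgSp.yon S).map z.obj.fst.sec.down :=
        yEquiv.symm_apply_eq.2 (ULift.ext _ _ (Category.id_comp _).symm)
      rw [hm, ← Functor.map_comp, ← Functor.map_comp]
      exact congrArg _ (hrel z).symm)
    exact fn_injective ((AlgSp.yon S).map_injective (h₁.trans h₂.symm))
  · intro s
    have hσ : ∀ ⦃a b : (FibCat.fp (AlgSt.ofSpMap g) π).obj⦄ (f : a ⟶ b),
        ((AlgSp.yon S).obj (A1 S)).obj.map ((FibCat.fp (AlgSt.ofSpMap g) π).p.map f).op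
          ⟨eqToHom (fp_p_snd b).symm ≫ fn (T := 𝒳.p.obj b.obj.snd) (s.1 b.obj.snd (toEta E b))⟩ =
          ⟨eqToHom (fp_p_snd a).symm ≫ fn (T := 𝒳.p.obj a.obj.snd) (s.1 a.obj.snd (toEta E a))⟩ :=
      fun a b f => by
      refine ULift.ext _ _ ?_
      show f.hom.fst.hom ≫ eqToHom _ ≫ _ = _
      have e := s.2 f.hom.snd (toEta E b)
      rw [map_toEta, StMod.O_mapTop] at e
      refine Eq.trans ?_ (congrArg (fun t => eqToHom (fp_p_snd a).symm ≫ t)
        ((fn_comp (T' := 𝒳.p.obj a.obj.snd) (T := 𝒳.p.obj b.obj.snd) (𝒳.p.map f.hom.snd) _).trans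
          (congrArg (fn (T := 𝒳.p.obj a.obj.snd)) e)))
      rw [fp_map_snd]
      simp
    let φ := sigmaFunctor (𝒳 := FibCat.fp (AlgSt.ofSpMap g) π) (M := (AlgSp.yon S).obj (A1 S))
      (fun z => ⟨eqToHom (fp_p_snd z).symm ≫ fn (T := 𝒳.p.obj z.obj.snd) (s.1 z.obj.snd (toEta E z))⟩) hσ
    obtain ⟨v, ⟨j⟩, -⟩ := hc.2 ((AlgSp.yon S).obj (A1 S)) (AlgSp.IsAlgSpace.yon_obj _) φ
    obtain ⟨v₀, rfl⟩ := (AlgSp.yon S).map_surjective v
    obtain ⟨r, rfl⟩ := exists_fn v₀
    refine ⟨r, StMod.Mod.RelSect.ext _ _ _ fun ξ α => ?_⟩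
    rw [StMod.unitSect_val]
    let T := 𝒳.p.obj ξ
    let m : T ⟶ E.obj.left := StMod.baseOver π ξ α
    have hrel : (AlgSp.yon S).map m ≫ g = (AlgSp.yon S).map (eqToHom (rfl : 𝒳.p.obj ξ = T).symm) ≫
        homOf π ξ := by
      apply yEquiv.injective
      rw [eqToHom_refl, CategoryTheory.Functor.map_id, Category.id_comp, Equiv.apply_symm_apply,
        ← yEquiv.symm_apply_apply g, yon_map_yEquiv_symm, Equiv.apply_symm_apply]
      show M.obj.map (eqToHom _ ≫ α.hom).op (StMod.etaOf E).sec = secOf π ξ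
      rw [← map_op_comp, α.map_sec]
      rfl
    let z := mkFp ((AlgSp.yon S).map m) ξ rfl hrel
    have hα : toEta E z = α := elt_hom_ext_p (by
      have h := baseOver_toEta E z
      have hzm : z.obj.fst.sec.down = m := Category.id_comp m
      rw [hzm] at h
      have h' : eqToHom (π.w_obj ξ).symm ≫ (toEta E z).hom = eqToHom (π.w_obj ξ).symm ≫ α.hom :=
        h.trans (Category.id_comp _)
      exact (cancel_epi _).1 h')
    have e := congrArg (fun y => yEquiv y) (homOf_eq_of_iso j z)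
    rw [homOf_comp, homOf_fpFst] at e
    have e' : z.obj.fst.sec.down ≫ fn r =
        eqToHom (fp_p_snd z).symm ≫ fn (T := 𝒳.p.obj z.obj.snd) (s.1 z.obj.snd (toEta E z)) := by
      have e₂ : (⟨z.obj.fst.sec.down ≫ fn r⟩ : ((AlgSp.yon S).obj (A1 S)).obj.obj _) =
          secOf φ z := by
        refine Eq.trans ?_ (e.trans (Equiv.apply_symm_apply _ _))
        refine Eq.trans ?_ (congrArg yEquiv (yEquiv_symm_comp z.obj.fst.sec ((AlgSp.yon S).map (fn r)))).symm
        refine Eq.trans ?_ (Equiv.apply_symm_apply _ _).symm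
        rfl
      rw [secOf_sigmaFunctor] at e₂
      exact congrArg ULift.down e₂
    rw [show z.obj.fst.sec.down = m from Category.id_comp m, hα] at e'
    refine fn_injective (T := 𝒳.p.obj ξ) ?_
    exact ((fn_comp (T' := 𝒳.p.obj ξ) (T := E.obj.left) (StMod.baseOver π ξ α) r).symm.trans e').trans
      (Category.id_comp _)

end Groth.ConstQuot
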